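import Cfsg.Agent.Lib.AutPSU.Out
import Cfsg.Agent.Lib.AutPSL.FieldCent
import Cfsg.Agent.Lib.GUField

/-!
# Field automorphisms of `PSU_n(q)`: basic facts
-/

set_option autoImplicit false
set_option linter.unusedSectionVars false
set_option linter.unusedSimpArgs false
set_option linter.unusedVariables false
set_option linter.style.haveILetI false

namespace Cfsg.Agent.Lib.AutPSU

open Module Matrix Cfsg Cfsg.Agent.Lib.SUGen Cfsg.Agent.Lib.HermForm Cfsg.Agent.Lib.HermOrtho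
open Cfsg.Agent.Lib.Hilbert90
open scoped MatrixGroups

variable {F : Type*} [Field F] [Fintype F] {q n : ℕ}

local notation "⟪" x ", " y "⟫" => hermForm n F q x y

theorem semiAut_congr {g g' : GL (Fin n) F} (hg : g ∈ GU n F q) (hg' : g' ∈ GU n F q) (h : g = g') (σ : F ≃+* F) :
    semiAut hg σ = semiAut hg' σ := by
  subst h
  rfl

/-- The standard field automorphism. -/
noncomputable def faU (n : ℕ) (F : Type*) [Field F] [Fintype F] (q : ℕ) (σ : F ≃+* F) : MulAut (PSU n F q) :=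
  semiAut (one_mem (GU n F q)) σ

theorem faU_mul (σ σ' : F ≃+* F) : faU n F q σ * faU n F q σ' = faU n F q (σ * σ') := by
  rw [faU, faU, semiAut_mul]
  apply semiAut_congr
  simp [gMul]

theorem faU_one : faU n F q (1 : F ≃+* F) = 1 := (inHomU n F q).map_one

theorem eq_faU {σ : F ≃+* F} {φ : MulAut (PSU n F q)} (h : IsFieldAutPSUOf σ φ) : φ = faU n F q σ := by
  ext x
  obtain ⟨s, rfl⟩ := piT_surj x
  rw [faU, semiAut_pi]
  apply h
  rw [semiSU_mat]
  simp [semiMat]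

theorem semiAut_eq_mul {g : GL (Fin n) F} (hg : g ∈ GU n F q) (σ : F ≃+* F) :
    semiAut hg σ = inHomU n F q ⟨g, hg⟩ * faU n F q σ := semiAut_factor hg σ

theorem glMap_mem {g : GL (Fin n) F} (hg : g ∈ GU n F q) (σ : F ≃+* F) :
    Cfsg.Agent.Lib.AutPSL.glMap σ g ∈ GU n F q := by
  have := gMul_mem (one_mem (GU n F q)) hg σ
  rwa [gMul, one_mul] at this

theorem nrm_mem {g : GL (Fin n) F} (hg : g ∈ GU n F q) (σ : F ≃+* F) (k : ℕ) :
    Cfsg.Agent.Lib.AutPSL.nrm σ g k ∈ GU n F q := by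
  induction k with
  | zero => exact one_mem _
  | succ k ih => exact gMul_mem hg ih σ

theorem semiAut_pow {g : GL (Fin n) F} (hg : g ∈ GU n F q) (σ : F ≃+* F) (k : ℕ) :
    (semiAut hg σ) ^ k = semiAut (nrm_mem hg σ k) (σ ^ k) := by
  induction k with
  | zero => exact (inHomU n F q).map_one.symm
  | succ k ih =>
    rw [pow_succ', ih, semiAut_mul, pow_succ']
    rfl

/-- Description of `Inndiag`. -/
theorem inndiag_eq_range : inndiagPSU n F q = (inHomU n F q).range := by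
  apply le_antisymm
  · apply (Subgroup.closure_le _).2
    rintro β ⟨g, hg, h⟩
    refine ⟨⟨g, hg⟩, ?_⟩
    ext x
    obtain ⟨s, rfl⟩ := piT_surj x
    rw [inHomU_apply, semiAut_pi]
    refine (h _ _ ?_).symm
    rw [semiSU_mat]
    simp [semiMat]
  · rintro _ ⟨g, rfl⟩
    exact Subgroup.subset_closure (isInnerDiag_semiAut g.2)

theorem mem_inndiag_iff (β : MulAut (PSU n F q)) : β ∈ inndiagPSU n F q ↔ ∃ g : GU n F q, inHomU n F q g = β := by
  rw [inndiag_eq_range]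
  rfl

section WithHyp

variable (hF : Fintype.card F = q ^ 2)
include hF

variable {p : ℕ} [hp : Fact p.Prime] [hch : CharP F p]
include hp hch

/-- The field part. -/
theorem exists_fieldPart (hn : 3 ≤ n) (h32 : ¬ (n = 3 ∧ q = 2)) :
    ∃ Φ : MulAut (PSU n F q) →* (F ≃+* F), ∀ (g : GL (Fin n) F) (hg : g ∈ GU n F q) (σ : F ≃+* F), Φ (semiAut hg σ) = σ := by
  let L : MulAut (PSU n F q) → (F ≃+* F) → Prop := fun β σ => ∃ (g : GL (Fin n) F) (hg : g ∈ GU n F q), β = semiAut hg σ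
  have huniq : ∀ a t t', L a t → L a t' → t = t' := by
    rintro a t t' ⟨g, hg, rfl⟩ ⟨g', hg', h⟩
    exact (semiAut_eq_imp (p := p) hF hn hg hg' h).1.symm
  obtain ⟨Φ, hΦ⟩ := Cfsg.Agent.Lib.OutPSL.exists_hom_of_rel L
    (fun β => by
      obtain ⟨g, hg, σ, h⟩ := exists_semi' (p := p) hF hn h32 β
      exact ⟨σ, g, hg, h⟩)
    huniq
    (by
      rintro a b s t ⟨g, hg, rfl⟩ ⟨h, hh, rfl⟩
      exact ⟨_, _, semiAut_mul hg hh s t⟩)
  exact ⟨Φ, fun g hg σ => huniq _ _ _ (hΦ _) ⟨g, hg, rfl⟩⟩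

/-- `Inndiag` is normal. -/
theorem conj_mem_inndiag (hn : 3 ≤ n) (h32 : ¬ (n = 3 ∧ q = 2)) (α : MulAut (PSU n F q)) {δ : MulAut (PSU n F q)}
    (hδ : δ ∈ inndiagPSU n F q) : α * δ * α⁻¹ ∈ inndiagPSU n F q := by
  obtain ⟨Φ, hΦ⟩ := exists_fieldPart (p := p) hF hn h32
  obtain ⟨g, rfl⟩ := (mem_inndiag_iff δ).1 hδ
  have h1 : Φ (inHomU n F q g) = 1 := hΦ g.1 g.2 (RingEquiv.refl F)
  obtain ⟨g', hg', σ, h⟩ := exists_semi' (p := p) hF hn h32 (α * inHomU n F q g * α⁻¹)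
  have h2 : σ = 1 := by
    have h3 := hΦ g' hg' σ
    rw [← h, map_mul, map_mul, h1, mul_one, map_inv, mul_inv_cancel] at h3
    exact h3.symm
  subst h2
  rw [h]
  exact (mem_inndiag_iff _).2 ⟨⟨g', hg'⟩, rfl⟩

theorem orderOf_faU (hn : 3 ≤ n) (σ : F ≃+* F) : orderOf (faU n F q σ) = orderOf σ := by
  have hinj : Function.Injective (fun σ : F ≃+* F => faU n F q σ) := by
    intro σ σ' h
    exact (semiAut_eq_imp (p := p) hF hn (one_mem _) (one_mem _) h).1.symm
  let f : (F ≃+* F) →* MulAut (PSU n F q) :=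
    { toFun := faU n F q
      map_one' := faU_one
      map_mul' := fun a b => (faU_mul a b).symm }
  exact orderOf_injective f hinj σ

end WithHyp

/-! ### Field theory -/

/-- The involution `x ↦ x^q`. -/
noncomputable def tauE (hF : Fintype.card F = q ^ 2) : F ≃+* F :=
  RingEquiv.ofBijective (UnitaryBasic.sigma hF) (Function.Involutive.bijective (UnitaryBasic.sigma_sigma hF))

theorem tauE_apply (hF : Fintype.card F = q ^ 2) (x : F) : tauE hF x = x ^ q := rfl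

theorem tauE_tauE (hF : Fintype.card F = q ^ 2) (x : F) : tauE hF (tauE hF x) = x := UnitaryBasic.sigma_sigma hF x

theorem map_tauE (hF : Fintype.card F = q ^ 2) (σ : F ≃+* F) (x : F) : σ (tauE hF x) = tauE hF (σ x) := map_pow σ x q

theorem tauE_sq (hF : Fintype.card F = q ^ 2) : tauE hF ^ 2 = 1 := by
  ext x
  rw [pow_two]
  exact tauE_tauE hF x

theorem tauE_ne_one (hF : Fintype.card F = q ^ 2) : tauE hF ≠ 1 := by
  intro h
  apply Cfsg.Agent.Lib.UnitaryConj.sigma_ne_id hF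
  ext x
  exact DFunLike.congr_fun h x

theorem orderOf_tauE (hF : Fintype.card F = q ^ 2) : orderOf (tauE hF) = 2 := by
  haveI : Fact (Nat.Prime 2) := ⟨Nat.prime_two⟩
  exact orderOf_eq_prime (tauE_sq hF) (tauE_ne_one hF)

theorem commute_tauE (hF : Fintype.card F = q ^ 2) (σ : F ≃+* F) : Commute σ (tauE hF) := by
  ext x
  exact map_tauE hF σ x

/-- For `σ` of odd order, `τ` acts non-trivially on the fixed field of `σ`. -/
theorem exists_fixed_not_tau (hF : Fintype.card F = q ^ 2) (σ : F ≃+* F) (hodd : Odd (orderOf σ)) :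
    ∃ a, σ a = a ∧ tauE hF a ≠ a := by
  by_contra hcon
  push Not at hcon
  set r := orderOf σ with hr
  have hcop : Nat.Coprime r 2 := by
    exact hodd.coprime_two_right
  have hord : orderOf (σ * tauE hF) = r * 2 := by
    have := (commute_tauE hF σ).orderOf_mul_eq_mul_orderOf_of_coprime (by rw [orderOf_tauE, ← hr]; exact hcop)
    rw [this, orderOf_tauE]
  have h1 := card_eq_card_fixedF_pow σ hr.symm
  have h2 := card_eq_card_fixedF_pow (σ * tauE hF) hord
  have hle : Nat.card (fixedF σ) ≤ Nat.card (fixedF (σ * tauE hF)) := by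
    apply Nat.card_le_card_of_injective (fun x : fixedF σ => (⟨x.1, by
      rw [mem_fixedF]
      change σ (tauE hF x.1) = x.1
      rw [hcon x.1 x.2]
      exact x.2⟩ : fixedF (σ * tauE hF)))
    intro a b hab
    have h := congrArg (fun y : fixedF (σ * tauE hF) => (y : F)) hab
    exact Subtype.ext h
  have hr0 : r ≠ 0 := by
    rintro h0
    rw [h0] at hodd
    exact absurd hodd (by decide)
  have h3 : Nat.card (fixedF σ) = Nat.card (fixedF (σ * tauE hF)) ^ 2 := by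
    have h4 : Nat.card (fixedF σ) ^ r = (Nat.card (fixedF (σ * tauE hF)) ^ 2) ^ r := by
      rw [← h1, h2, ← pow_mul, mul_comm]
    exact Nat.pow_left_injective (n := r) (by omega) h4
  have h5 : 1 < Nat.card (fixedF (σ * tauE hF)) := Finite.one_lt_card
  rw [h3] at hle
  nlinarith

/-- The restriction of `τ` to the fixed field of `σ`. -/
noncomputable def tau₀ (hF : Fintype.card F = q ^ 2) (σ : F ≃+* F) : fixedF σ ≃+* fixedF σ where
  toFun x := ⟨tauE hF x.1, by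
    rw [mem_fixedF, map_tauE, mem_fixedF.1 x.2]⟩
  invFun x := ⟨tauE hF x.1, by
    rw [mem_fixedF, map_tauE, mem_fixedF.1 x.2]⟩
  left_inv x := Subtype.ext (tauE_tauE hF x.1)
  right_inv x := Subtype.ext (tauE_tauE hF x.1)
  map_mul' x y := Subtype.ext (map_mul (tauE hF) x.1 y.1)
  map_add' x y := Subtype.ext (map_add (tauE hF) x.1 y.1)

theorem tau₀_val (hF : Fintype.card F = q ^ 2) (σ : F ≃+* F) (x : fixedF σ) : ((tau₀ hF σ x : fixedF σ) : F) = tauE hF x.1 := rfl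

theorem orderOf_tau₀ (hF : Fintype.card F = q ^ 2) (σ : F ≃+* F) (hodd : Odd (orderOf σ)) : orderOf (tau₀ hF σ) = 2 := by
  haveI : Fact (Nat.Prime 2) := ⟨Nat.prime_two⟩
  apply orderOf_eq_prime
  · ext x
    rw [pow_two]
    exact tauE_tauE hF x.1
  · intro h
    obtain ⟨a, ha, hτa⟩ := exists_fixed_not_tau hF σ hodd
    have := DFunLike.congr_fun h (⟨a, ha⟩ : fixedF σ)
    exact hτa (congrArg Subtype.val this)

/-- Hilbert 90 for `τ` on the fixed field of `σ`. -/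
theorem exists_rho (hF : Fintype.card F = q ^ 2) (σ : F ≃+* F) (hodd : Odd (orderOf σ)) {μ : F} (hμσ : σ μ = μ)
    (hμ : μ * tauE hF μ = 1) : ∃ ρ : F, ρ ≠ 0 ∧ σ ρ = ρ ∧ μ * tauE hF ρ = ρ := by
  have h1 : pnorm (tau₀ hF σ) (⟨μ, hμσ⟩ : fixedF σ) 2 = 1 := by
    apply Subtype.ext
    simp only [pnorm, Finset.prod_range_succ, Finset.prod_range_zero, one_mul, pow_zero, pow_one]
    exact hμ
  obtain ⟨d, hd, hcd⟩ := exists_of_pnorm_eq_one (tau₀ hF σ) (by omega) (orderOf_tau₀ hF σ hodd) h1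
  refine ⟨d.1, fun h0 => hd (Subtype.ext h0), d.2, ?_⟩
  exact congrArg Subtype.val hcd

/-- Surjectivity of the norm of `τ` on the fixed field of `σ`. -/
theorem exists_E (hF : Fintype.card F = q ^ 2) (σ : F ≃+* F) (hodd : Odd (orderOf σ)) {t : F} (ht0 : t ≠ 0) (htσ : σ t = t)
    (htτ : tauE hF t = t) : ∃ E : F, E ≠ 0 ∧ σ E = E ∧ E * tauE hF E = t := by
  haveI : Fintype (fixedF σ) := Fintype.ofFinite _
  obtain ⟨d, hd, hdn⟩ := Cfsg.Agent.Lib.AutPSL.exists_norm_eq (tau₀ hF σ) (by omega) (orderOf_tau₀ hF σ hodd)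
    (c := (⟨t, htσ⟩ : fixedF σ)) (fun h0 => ht0 (congrArg Subtype.val h0)) (Subtype.ext htτ)
  refine ⟨d.1, fun h0 => hd (Subtype.ext h0), d.2, ?_⟩
  have h1 := congrArg Subtype.val hdn
  simp only [pnorm, Finset.prod_range_succ, Finset.prod_range_zero, one_mul, pow_zero, pow_one] at h1
  exact h1

theorem pnorm_mul' (σ : F ≃+* F) (a b : F) (k : ℕ) : pnorm σ (a * b) k = pnorm σ a k * pnorm σ b k := by
  simp only [pnorm, map_mul, Finset.prod_mul_distrib]

theorem pnorm_inv' (σ : F ≃+* F) (a : F) (k : ℕ) : pnorm σ a⁻¹ k = (pnorm σ a k)⁻¹ := by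
  simp only [pnorm, map_inv₀, Finset.prod_inv_distrib]

theorem pnorm_tau (hF : Fintype.card F = q ^ 2) (σ : F ≃+* F) (a : F) (k : ℕ) :
    pnorm σ (tauE hF a) k = tauE hF (pnorm σ a k) := by
  simp only [pnorm, map_prod, map_tauE]

/-- A norm-one element fixed by `σ` is the `σ`-norm of a norm-one element. -/
theorem exists_nu (hF : Fintype.card F = q ^ 2) (σ : F ≃+* F) (hodd : Odd (orderOf σ)) {μ : F} (hμσ : σ μ = μ)
    (hμ : μ * tauE hF μ = 1) : ∃ ν : F, ν ≠ 0 ∧ ν * tauE hF ν = 1 ∧ pnorm σ ν (orderOf σ) = μ := by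
  obtain ⟨ρ, hρ, hρσ, hμρ⟩ := exists_rho hF σ hodd hμσ hμ
  have hpos : 0 < orderOf σ := hodd.pos
  obtain ⟨d, hd, hdn⟩ := Cfsg.Agent.Lib.AutPSL.exists_norm_eq σ hpos rfl hρ hρσ
  have hτd : tauE hF d ≠ 0 := (map_ne_zero (tauE hF)).2 hd
  refine ⟨d * (tauE hF d)⁻¹, mul_ne_zero hd (inv_ne_zero hτd), ?_, ?_⟩
  · rw [map_mul, map_inv₀, tauE_tauE]
    field_simp
  · rw [pnorm_mul', pnorm_inv', pnorm_tau, hdn]
    have hτρ : tauE hF ρ ≠ 0 := (map_ne_zero (tauE hF)).2 hρ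
    field_simp
    rw [mul_comm]
    exact hμρ.symm

/-- Hilbert 90 for norm-one elements. -/
theorem exists_c (hF : Fintype.card F = q ^ 2) (σ : F ≃+* F) (hodd : Odd (orderOf σ)) {ν : F}
    (hν : ν * tauE hF ν = 1) (hp : pnorm σ ν (orderOf σ) = 1) :
    ∃ c : F, c ≠ 0 ∧ c * tauE hF c = 1 ∧ ν * σ c = c := by
  have hpos : 0 < orderOf σ := hodd.pos
  obtain ⟨c₀, hc₀, hνc₀⟩ := exists_of_pnorm_eq_one σ hpos rfl hp
  have hν0 : ν ≠ 0 := left_ne_zero_of_mul_eq_one hν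
  have hτc₀ : tauE hF c₀ ≠ 0 := (map_ne_zero (tauE hF)).2 hc₀
  set t := c₀ * tauE hF c₀ with ht
  have ht0 : t ≠ 0 := mul_ne_zero hc₀ hτc₀
  have htτ : tauE hF t = t := by
    rw [ht, map_mul, tauE_tauE, mul_comm]
  have htσ : σ t = t := by
    rw [ht, map_mul, map_tauE]
    conv_rhs => rw [← hνc₀]
    rw [map_mul (tauE hF)]
    calc σ c₀ * tauE hF (σ c₀) = (ν * tauE hF ν) * (σ c₀ * tauE hF (σ c₀)) := by rw [hν, one_mul]
      _ = _ := by ring
  obtain ⟨E, hE, hEσ, hEn⟩ := exists_E hF σ hodd (inv_ne_zero ht0) (by rw [map_inv₀, htσ]) (by rw [map_inv₀, htτ])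
  refine ⟨c₀ * E, mul_ne_zero hc₀ hE, ?_, ?_⟩
  · rw [map_mul]
    calc c₀ * E * (tauE hF c₀ * tauE hF E) = t * (E * tauE hF E) := by rw [ht]; ring
      _ = 1 := by rw [hEn, mul_inv_cancel₀ ht0]
  · rw [map_mul, hEσ, ← mul_assoc, hνc₀]

end Cfsg.Agent.Lib.AutPSU
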